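import Groth.Prelude.Def_FinCov
import Groth.Agent.Props12.FinLocFree
import Groth.Agent.Coherent.QcohOps
import Groth.Agent.Coherent.SchemeCoh
import Groth.Agent.RelSpecLib.Basic
import Mathlib.RingTheory.Spectrum.Prime.FreeLocus

/-! Degree-`d` covers are the affine morphisms with locally free direct image of rank `d`. -/

set_option autoImplicit false
set_option backward.isDefEq.respectTransparency.types false

universe u

open CategoryTheory CategoryTheory.Limits AlgebraicGeometry Opposite TopologicalSpace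

namespace Groth.Agent.FinCovAff5

variable {X Y : Scheme.{u}} (f : X ⟶ Y)

theorem isPullback_affine [IsAffineHom f] {W : Y.Opens} (hW : IsAffineOpen W) :
    IsPullback (hW.preimage f).fromSpec (Spec.map (f.app W)) f hW.fromSpec := by
  refine (IsOpenImmersion.isPullback (Spec.map (f.app W)) (hW.preimage f).fromSpec hW.fromSpec f ?_ ?_).flip
  · rw [← Scheme.Hom.appLE_eq_app, hW.SpecMap_appLE_fromSpec f (hW.preimage f)]
  · simp [IsAffineOpen.opensRange_fromSpec]

theorem free_away {A A' M M' : Type u} [CommRing A] [CommRing A'] [Algebra A A'] [AddCommGroup M] [Module A M]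
    [AddCommGroup M'] [Module A M'] [Module A' M'] [IsScalarTower A A' M'] (S : Submonoid A)
    [IsLocalization S A'] (φ : M →ₗ[A] M') [IsLocalizedModule S φ]
    [Module.Free (Localization S) (LocalizedModule S M)] : Module.Free A' M' := by
  let e1 : LocalizedModule S M ≃ₗ[A] M' := IsLocalizedModule.iso S φ
  let e2 : Localization S ≃+* A' := (IsLocalization.algEquiv S (Localization S) A').toRingEquiv
  have := RingHomInvPair.of_ringEquiv e2
  have := RingHomInvPair.symm (e2 : Localization S →+* A') (e2.symm : A' →+* Localization S)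
  let l : LocalizedModule S M ≃ₛₗ[(e2 : Localization S →+* A')] M' :=
    { e1 with
      map_smul' := fun r x => by
        obtain ⟨a, s, rfl⟩ := IsLocalization.exists_mk'_eq S r
        have hs : IsUnit (algebraMap A A' s) := IsLocalization.map_units A' s
        apply hs.smul_left_cancel.mp
        show algebraMap A A' s • e1 (IsLocalization.mk' (Localization S) a s • x) =
          algebraMap A A' s • (e2 (IsLocalization.mk' (Localization S) a s) • e1 x)
        have h2 : e2 (IsLocalization.mk' (Localization S) a s) = IsLocalization.mk' A' a s := by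
          simp [e2, IsLocalization.algEquiv]
        rw [h2, smul_smul, IsLocalization.mk'_spec', algebraMap_smul, algebraMap_smul, ← map_smul,
          ← map_smul, ← algebraMap_smul (Localization S) (s : A), smul_smul, IsLocalization.mk'_spec',
          algebraMap_smul] }
  exact Module.Free.of_equiv l

/-- A cover of degree `d` over an affine chart. -/
theorem isCover_of_local (d : ℕ) [IsAffineHom f]
    (h : ∀ y : Y, ∃ W : Y.Opens, IsAffineOpen W ∧ y ∈ W ∧
      letI := (f.app W).hom.toAlgebra
      Nonempty (Module.Basis (Fin d) Γ(Y, W) Γ(X, f ⁻¹ᵁ W))) :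
    FinCov.IsCover f d := by
  choose W hW hy hb using h
  have hf : ∀ y, (f.app (W y)).hom.Finite ∧ (f.app (W y)).hom.Flat ∧
      (f.app (W y)).hom.FinitePresentation ∧
      ∀ x, Scheme.Hom.finrank (Spec.map (f.app (W y))) x = d := fun y => by
    let _ := (f.app (W y)).hom.toAlgebra
    obtain ⟨b⟩ := hb y
    have := Module.Finite.of_basis b
    have := Module.Free.of_basis b
    have : Module.FinitePresentation Γ(Y, W y) Γ(X, f ⁻¹ᵁ W y) :=
      Module.finitePresentation_of_projective _ _
    have : Algebra.FinitePresentation Γ(Y, W y) Γ(X, f ⁻¹ᵁ W y) :=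
      Algebra.FinitePresentation.of_finitePresentation _ _
    refine ⟨RingHom.finite_algebraMap.mpr ‹_›, RingHom.flat_algebraMap_iff.mpr inferInstance,
      RingHom.finitePresentation_algebraMap.mpr ‹_›, fun x => ?_⟩
    have : Nontrivial Γ(Y, W y) := PrimeSpectrum.nontrivial x
    refine (Scheme.Hom.finrank_SpecMap_algebraMap Γ(Y, W y) Γ(X, f ⁻¹ᵁ W y) x).trans ?_
    rw [Module.rankAtStalk_eq_finrank_of_free]
    exact (Module.finrank_eq_card_basis b).trans (Fintype.card_fin d)
  have loc : ∀ (P : MorphismProperty Scheme.{u}) [IsZariskiLocalAtTarget P],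
      (∀ y, P (Spec.map (f.app (W y)))) → P f := by
    intro P _ hP
    let 𝒰 : Y.OpenCover := Y.openCoverOfIsOpenCover (W ·) (eq_top_iff.mpr fun y _ =>
      TopologicalSpace.Opens.mem_iSup.mpr ⟨y, hy y⟩)
    refine IsZariskiLocalAtTarget.of_iSup_eq_top W (eq_top_iff.mpr fun y _ =>
      TopologicalSpace.Opens.mem_iSup.mpr ⟨y, hy y⟩) fun y => ?_
    have h1 := (isPullback_affine f (hW y)).flip
    let e : (W y).toScheme ≅ Spec Γ(Y, W y) := (hW y).isoSpec
    have h2 : IsPullback (f ∣_ W y) (f ⁻¹ᵁ W y).ι (W y).ι f := isPullback_morphismRestrict f (W y)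
    have h3 : IsPullback (Spec.map (f.app (W y))) ((hW y).preimage f).fromSpec
        (e.inv ≫ (W y).ι) f := h1
    have h4 : IsPullback (Spec.map (f.app (W y)) ≫ e.inv) ((hW y).preimage f).fromSpec (W y).ι f :=
      h3.of_iso (Iso.refl _) e.symm (Iso.refl _) (Iso.refl _) (by simp) (by simp) (by simp) (by simp)
    rw [← P.cancel_left_of_respectsIso (h4.isoPullback ≪≫ h2.isoPullback.symm).hom,
      show (h4.isoPullback ≪≫ h2.isoPullback.symm).hom ≫ f ∣_ W y =
        Spec.map (f.app (W y)) ≫ e.inv by simp, P.cancel_right_of_respectsIso]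
    exact hP y
  have hfin : IsFinite f := loc @IsFinite fun y => (IsFinite.SpecMap_iff _).mpr (hf y).1
  have hflat : Flat f := loc @Flat fun y => Flat.SpecMap_iff.mpr (hf y).2.1
  have hfp : LocallyOfFinitePresentation f := loc @LocallyOfFinitePresentation fun y =>
    (HasRingHomProperty.Spec_iff (P := @LocallyOfFinitePresentation)).mpr (hf y).2.2.1
  refine ⟨⟨hfin, hflat, hfp⟩, fun z => ?_⟩
  obtain ⟨x, hx⟩ : ∃ x, (hW z).fromSpec x = z := by
    have : z ∈ Set.range (hW z).fromSpec := by rw [(hW z).range_fromSpec]; exact hy z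
    exact this
  have := Scheme.Hom.finrank_of_isPullback _ _ _ _ (isPullback_affine f (hW z)) x
  rw [hx] at this
  exact this.symm.trans ((hf z).2.2.2 x)

/-- A quasi-coherent module with a basis of sections over an affine open is free there. -/
theorem isFinLocFreeOfRank_of_local {M : Y.Modules} [Coh.IsQCoh M] {d : ℕ}
    (h : ∀ y : Y, ∃ W : Y.Opens, IsAffineOpen W ∧ y ∈ W ∧
      Nonempty (Module.Basis (Fin d) Γ(Y, W) Γ(M, W))) :
    FlatMod.IsFinLocFreeOfRank d M := fun y => by
  obtain ⟨W, hW, hy, ⟨b⟩⟩ := h y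
  have : IsAffine W.toScheme := hW
  obtain ⟨b'⟩ := Props12.exists_basis_restrict_top M W b
  exact ⟨W, hy, Props12.exists_iso_freeMod_of_basis _ b'⟩

/-- A cover of degree `d` has a basis near every point of the base. -/
theorem exists_local_of_isCover (d : ℕ) (hf : FinCov.IsCover f d) (y : Y) :
    ∃ W : Y.Opens, IsAffineOpen W ∧ y ∈ W ∧
      letI := (f.app W).hom.toAlgebra
      Nonempty (Module.Basis (Fin d) Γ(Y, W) Γ(X, f ⁻¹ᵁ W)) := by
  obtain ⟨⟨hfin, hflat, hfp⟩, hd⟩ := hf
  obtain ⟨U, hU, hyU, -⟩ := Opens.isBasis_iff_nbhd.mp Y.isBasis_affineOpens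
    (TopologicalSpace.Opens.mem_top y)
  let p := hU.primeIdealOf ⟨y, hyU⟩
  let A := Γ(Y, U)
  let B := Γ(X, f ⁻¹ᵁ U)
  let _ : Algebra A B := (f.app U).hom.toAlgebra
  have : Module.Finite A B := RingHom.finite_algebraMap.mp (f.finite_app U hU)
  have : Module.Flat A B := RingHom.flat_algebraMap_iff.mp (show (f.app U).hom.Flat by
    rw [← Scheme.Hom.appLE_eq_app]
    exact HasRingHomProperty.appLE @Flat f hflat ⟨U, hU⟩ ⟨_, hU.preimage f⟩ le_rfl)
  have : Algebra.FinitePresentation A B := RingHom.finitePresentation_algebraMap.mp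
    (show (f.app U).hom.FinitePresentation by
      rw [← Scheme.Hom.appLE_eq_app]
      exact HasRingHomProperty.appLE @LocallyOfFinitePresentation f hfp ⟨U, hU⟩ ⟨_, hU.preimage f⟩ le_rfl)
  have : Module.FinitePresentation A B :=
    Module.FinitePresentation.of_finite_of_finitePresentation A B
  have : Module.Free (Localization.AtPrime p.asIdeal) (LocalizedModule p.asIdeal.primeCompl B) :=
    Module.free_of_flat_of_isLocalRing
  obtain ⟨g, hg, hfree, -⟩ := Module.FinitePresentation.exists_free_localizedModule_powers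
    p.asIdeal.primeCompl (LocalizedModule.mkLinearMap p.asIdeal.primeCompl B) (Localization.AtPrime p.asIdeal)
  let W := Y.basicOpen g
  have hyW : y ∈ W := by
    have h1 : p ∈ hU.fromSpec ⁻¹ᵁ W := by
      rw [hU.fromSpec_preimage_basicOpen]; exact hg
    have h2 : hU.fromSpec p ∈ W := h1
    rwa [hU.fromSpec_primeIdealOf] at h2
  refine ⟨W, hU.basicOpen g, hyW, ?_⟩
  let A' := Γ(Y, W)
  let B' := Γ(X, f ⁻¹ᵁ W)
  let _ : Algebra A' B' := (f.app W).hom.toAlgebra
  have hWU : W ≤ U := Y.basicOpen_le g
  let _ : Algebra A A' := (Y.presheaf.map (homOfLE hWU).op).hom.toAlgebra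
  let _ : Algebra B B' := (X.presheaf.map (homOfLE (f.preimage_mono hWU)).op).hom.toAlgebra
  let _ : Algebra A B' := ((algebraMap B B').comp (algebraMap A B)).toAlgebra
  have : IsScalarTower A B B' := IsScalarTower.of_algebraMap_eq' rfl
  have : IsScalarTower A A' B' := IsScalarTower.of_algebraMap_eq' (by
    exact (congr($(f.naturality (homOfLE hWU).op).hom)).symm)
  have : IsLocalization.Away g A' := hU.isLocalization_basicOpen g
  have : IsLocalization.Away (algebraMap A B g) B' :=
    (hU.preimage f).isLocalization_of_eq_basicOpen _ (f.preimage_mono hWU |> homOfLE)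
      (Scheme.preimage_basicOpen f g)
  have : IsLocalizedModule (Submonoid.powers g) (IsScalarTower.toAlgHom A B B').toLinearMap := by
    rw [isLocalizedModule_iff_isLocalization, Algebra.algebraMapSubmonoid_powers]
    assumption
  have hbc := IsLocalizedModule.isBaseChange (Submonoid.powers g) A'
    (IsScalarTower.toAlgHom A B B').toLinearMap
  have hfree' : Module.Free A' B' :=
    free_away (A := A) (M := B) (Submonoid.powers g) (IsScalarTower.toAlgHom A B B').toLinearMap
  have : Module.Finite A' B' := Module.Finite.of_isLocalizedModule (Submonoid.powers g)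
    (IsScalarTower.toAlgHom A B B').toLinearMap
  have : Nontrivial A' := by
    obtain ⟨x, -⟩ : ∃ x, (hU.basicOpen g).fromSpec x = y := by
      show y ∈ Set.range _
      rw [(hU.basicOpen g).range_fromSpec]; exact hyW
    exact PrimeSpectrum.nontrivial x
  refine ⟨Module.finBasisOfFinrankEq A' B' ?_⟩
  have h1 := isPullback_affine f (hU.basicOpen g)
  obtain ⟨x, hx⟩ : ∃ x, (hU.basicOpen g).fromSpec x = y := by
    show y ∈ Set.range _
    rw [(hU.basicOpen g).range_fromSpec]; exact hyW
  have h2 := Scheme.Hom.finrank_of_isPullback _ _ _ _ h1 x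
  rw [hx, hd] at h2
  have h3 := Scheme.Hom.finrank_SpecMap_algebraMap A' B' x
  rw [Module.rankAtStalk_eq_finrank_of_free] at h3
  exact h3.symm.trans h2

theorem isCover_iff (d : ℕ) :
    FinCov.IsCover f d ↔ IsAffineHom f ∧
      FlatMod.IsFinLocFreeOfRank d ((Scheme.Modules.pushforward f).obj (Coh.structureModule X)) := by
  constructor
  · intro hf
    have := hf.1.1
    refine ⟨inferInstance, ?_⟩
    have := Coherent.isQCoh_structureModule (X := X)
    have : Coh.IsQCoh ((Scheme.Modules.pushforward f).obj (Coh.structureModule X)) :=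
      Coherent.isQCoh_push f _
    refine isFinLocFreeOfRank_of_local fun y => ?_
    obtain ⟨W, hW, hy, ⟨b⟩⟩ := exists_local_of_isCover f d hf y
    exact ⟨W, hW, hy, ⟨b⟩⟩
  · rintro ⟨haff, h⟩
    refine isCover_of_local f d fun y => ?_
    obtain ⟨U, hy, ⟨e⟩⟩ := h y
    obtain ⟨W, hW, hyW, hWU⟩ := Opens.isBasis_iff_nbhd.mp Y.isBasis_affineOpens hy
    obtain ⟨b⟩ := Props12.exists_basis_sections e hWU
    exact ⟨W, hW, hyW, ⟨b⟩⟩

theorem isCover_π (A : RelSpec.QCAlg X) (d : ℕ) (hA : FlatMod.IsFinLocFreeOfRank d A.toModule) :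
    FinCov.IsCover A.π d := by
  refine isCover_of_local A.π d fun y => ?_
  obtain ⟨U, hy, ⟨e⟩⟩ := hA y
  obtain ⟨W, hW, hyW, hWU⟩ := Opens.isBasis_iff_nbhd.mp X.isBasis_affineOpens hy
  obtain ⟨b⟩ := Props12.exists_basis_sections e hWU
  refine ⟨W, hW, hyW, ?_⟩
  have := RelSpecLib.isIso_gammaMap A
  have hg : Function.Bijective (A.gammaAff W hW) := by
    rw [← A.gammaMap_app W hW]
    exact ConcreteCategory.bijective_of_isIso _
  let _ := (A.π.app W).hom.toAlgebra
  let l : Γ(A.spec, A.π ⁻¹ᵁ W) ≃ₗ[Γ(X, W)] Γ(A.toModule, W) :=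
    { RingEquiv.ofBijective (A.gammaAff W hW).hom hg with
      map_smul' := fun r a => by
        show (A.gammaAff W hW).hom ((A.π.app W).hom r * a) = (A.str.app (op W)).hom r * (A.gammaAff W hW).hom a
        rw [map_mul, ← A.π_app_gammaAff W hW]
        rfl }
  exact ⟨b.map l.symm⟩

end Groth.Agent.FinCovAff5
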